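import Cfsg.Agent.H35.Inv.Comp
import Cfsg.Agent.H255.Inv.Face

/-!
# `comp_facts` for a connected set of nodes (S3830, helper35)
-/

set_option autoImplicit false
set_option linter.unusedSectionVars false

namespace Cfsg.Agent.H35.Inv

open Subgroup (center)
open CoxeterSystem Cfsg.Agent.ChevalleyStructure.CoxeterGeom Cfsg.Agent.Tits.Roots
  Cfsg.Agent.Nodes.BNOf Cfsg.Agent.Nodes.Sub
  Cfsg.Agent.KFacts.RgdBorelTits Cfsg.Agent.KFacts.RgdCharP Cfsg.Agent.H255.Inv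
open Cfsg.Agent.H53.HC (MJ)
open Cfsg.Agent.BpLieP.Big (LocChar)
open Cfsg.Agent.Omega.ML.LieRow.CRB (HasSplitAb)
open scoped commutatorElement

variable {I W Y : Type*} [Fintype I] [DecidableEq I] [Group W] [Group Y] {M : CoxeterMatrix I}
  {cs : CoxeterSystem M W} {A : I → I → ℤ} {h : IsCartan M A} {r : ℕ} {T : Subgroup Y} {n : I → Y}
  {X : (I → ℤ) → Subgroup Y}

theorem conn_of_connJ {J : Set I} (hJ : ConnJ M J) :
    Conn (leviMatrix (Function.Embedding.subtype (fun i => i ∈ J)) M) := by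
  intro K hK hK1
  obtain ⟨a, ha, b, hb, hbK, hab⟩ := hJ (Subtype.val '' K) (by rintro _ ⟨k, -, rfl⟩; exact k.2) (hK.image _) (by
    intro e
    apply hK1
    rw [Set.eq_univ_iff_forall]
    intro k
    have h1 : (k : I) ∈ Subtype.val '' K := by rw [e]; exact k.2
    obtain ⟨k', hk', e'⟩ := h1
    rwa [Subtype.ext e'] at hk')
  obtain ⟨a', ha', rfl⟩ := ha
  exact ⟨a', ha', ⟨b, hb⟩, fun h0 => hbK ⟨_, h0, rfl⟩, hab⟩

/-- **The components of the Levi subgroups**, `J` a connected set of nodes. -/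
theorem comp_facts_set (R : RGD cs h r T n X)
    {F : (I → ℤ) → ℝ → Subgroup Y} (hF : Filt R F) [Finite W] [Finite Y] [Fact r.Prime]
    (hT : ∀ s ∈ T, ∀ t ∈ T, s * t = t * s) {J : Set I} (hJ : J.Nonempty) (hconn : ConnJ M J)
    (hperf : ⁅MJ cs h X J, MJ cs h X J⁆ = MJ cs h X J) :
    HasSplitAb r (↥(MJ cs h X J) ⧸ center ↥(MJ cs h X J)) ∧
      LocChar r (↥(MJ cs h X J) ⧸ center ↥(MJ cs h X J)) ∧
      center (↥(MJ cs h X J) ⧸ center ↥(MJ cs h X J)) = ⊥ ∧
      commutator (↥(MJ cs h X J) ⧸ center ↥(MJ cs h X J)) = ⊤ ∧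
      IsSimpleGroup (↥(MJ cs h X J) ⧸ center ↥(MJ cs h X J)) := by
  classical
  have : Nonempty {i // i ∈ J} := ⟨⟨_, hJ.some_mem⟩⟩
  have h1 := comp_facts R hF hT (Function.Embedding.subtype (fun i => i ∈ J)) (conn_of_connJ hconn)
  have h2 : Set.range (Function.Embedding.subtype (fun i => i ∈ J)) = J := Subtype.range_coe
  rw [h2] at h1
  exact h1 hperf

end Cfsg.Agent.H35.Inv
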