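import Mathlib
import Cfsg.Agent.KFacts.RgdFilt
import Cfsg.Agent.KFacts.RgdCharP
import Cfsg.Agent.Nodes.Sub
import Cfsg.Agent.Nodes.ClsSub
import Cfsg.Agent.H53.HC.RgdLevi
import Cfsg.Agent.KFacts.MulOdd.Shrink
import Cfsg.Agent.UGT.U2.FOne.QsRGD
import Cfsg.Agent.BpLieP.Big
import Cfsg.Agent.Mrg.Omega.ML.Ex.Ext

/-!
# Components of Levi subgroups of a filtered root group datum (S3830, helper35)

* `rgd_of_rp`, `filt_of_rp` : other representatives of the simple reflections;
* `filt_levi` : the filtration of a standard Levi subsystem;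
* `facts_of_rgd` : a perfect group `K` with a filtered root group datum with connected diagram, generated by the root
  groups, abelian torus: `K / Z(K)` is simple, `HasSplitAb`, `LocChar`;
* **`comp_facts`** : the same for the quotient by the centre of `M_J = ⟨X_x | x ∈ Φ_J⟩`, `J` connected, `M_J` perfect.
-/

set_option autoImplicit false
set_option linter.unusedSectionVars false

namespace Cfsg.Agent.H35.Inv

open Subgroup (center)
open CoxeterSystem Cfsg.Agent.ChevalleyStructure.CoxeterGeom Cfsg.Agent.Tits.Roots Cfsg.Agent.Tits.Core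
  Cfsg.Agent.Tits.Exchange Cfsg.Agent.Nodes.Reps Cfsg.Agent.Nodes.BNOf Cfsg.Agent.Nodes.StabComb
  Cfsg.Agent.Nodes.Bruhat Cfsg.Agent.Nodes.OppDec Cfsg.Agent.Nodes.LeviDec Cfsg.Agent.Nodes.RGDLib
  Cfsg.Agent.Nodes.SubComb Cfsg.Agent.Nodes.Sub Cfsg.Agent.Nodes.ClsSub
  Cfsg.Agent.KFacts.RgdBorelTits Cfsg.Agent.KFacts.RgdFilt Cfsg.Agent.KFacts.RgdCharP Cfsg.Agent.KFacts.RgdCent
open Cfsg.Agent.H53.HC (MJ)
open Cfsg.Agent.BpLieP.Big (LocChar)
open Cfsg.Agent.Omega.ML.LieRow.CRB (HasSplitAb)
open Cfsg.Agent.KFacts.MulOdd.Inst (Lv)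
open scoped commutatorElement

section Rp

variable {I W Y : Type*} [Fintype I] [DecidableEq I] [Group W] [Group Y] {M : CoxeterMatrix I}
  {cs : CoxeterSystem M W} {A : I → I → ℤ} {h : IsCartan M A} {r : ℕ} {T : Subgroup Y} {n : I → Y}
  {X : (I → ℤ) → Subgroup Y}

theorem mul_inv_mem_T (R : RGD cs h r T n X) {n' : I → Y} (hn : ∀ i, Rp cs R.nsys (cs.simple i) (n' i)) (i : I) :
    n i * (n' i)⁻¹ ∈ T := by
  have h2 := (rp_simple cs R.nsys i).mul (hn i).inv
  rw [mul_inv_cancel] at h2
  exact h2.mem_of_one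

/-- The root group datum with other representatives of the simple reflections. -/
theorem rgd_of_rp (R : RGD cs h r T n X) {n' : I → Y} (hn : ∀ i, Rp cs R.nsys (cs.simple i) (n' i)) :
    RGD cs h r T n' X where
  nsys := {
    norm := fun i => (hn i).mem_normalizer
    rel := fun i j => by
      have h1 : ∀ k : ℕ, Rp cs R.nsys ((cs.simple i * cs.simple j) ^ k) ((n' i * n' j) ^ k) := by
        intro k
        induction k with
        | zero => rw [pow_zero, pow_zero]; exact rp_one
        | succ k ih => rw [pow_succ, pow_succ]; exact ih.mul ((hn i).mul (hn j))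
      have h2 := h1 (M i j)
      rw [cs.simple_mul_simple_pow] at h2
      exact h2.mem_of_one }
  conj i x hx := R.conj_rp (hn i) hx
  tor := R.tor
  comm := R.comm
  rk1 i u hu hu1 := by
    obtain ⟨a, ha, t, ht, b, hb, he⟩ := R.rk1 i u hu hu1
    exact ⟨a, ha, t * (n i * (n' i)⁻¹), mul_mem ht (mul_inv_mem_T R hn i), b, hb, by rw [he]; group⟩
  pgrp := R.pgrp
  notp := R.notp
  tcop := R.tcop

theorem filt_of_rp {R : RGD cs h r T n X} {F : (I → ℤ) → ℝ → Subgroup Y} (hF : Filt R F) {n' : I → Y}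
    (hn : ∀ i, Rp cs R.nsys (cs.simple i) (n' i)) : Filt (rgd_of_rp R hn) F where
  le := hF.le
  mono := hF.mono
  neg := hF.neg
  full := hF.full
  closed := hF.closed
  conj i x s hx := by
    have h1 := mul_inv_mem_T R hn i
    have h2 : n' i = (n i * (n' i)⁻¹)⁻¹ * n i := by group
    rw [h2, cj_mul, hF.conj i x s hx]
    exact hF.tor _ s (hx.act _) _ (inv_mem h1)
  tor := hF.tor
  nrm := hF.nrm
  comm := hF.comm

end Rp

section Levi

variable {I W Y : Type*} [Fintype I] [DecidableEq I] [Group W] [Group Y] {M : CoxeterMatrix I}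
  {cs : CoxeterSystem M W} {A : I → I → ℤ} {h : IsCartan M A} {r : ℕ} {T : Subgroup Y} {n : I → Y}
  {X : (I → ℤ) → Subgroup Y}
  {J W' : Type*} [Fintype J] [DecidableEq J] [Group W']

/-- the extension by zero of a functional -/
noncomputable def ext0 (f : J ↪ I) (g : J → ℝ) : I → ℝ := by
  classical
  exact fun i => if hi : ∃ j, f j = i then g hi.choose else 0

theorem ext0_apply (f : J ↪ I) (g : J → ℝ) (j : J) : ext0 f g (f j) = g j := by
  classical
  have hj : ∃ k, f k = f j := ⟨j, rfl⟩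
  unfold ext0
  rw [dif_pos hj]
  congr 1
  exact f.injective hj.choose_spec

theorem ev_ext0 (f : J ↪ I) (g : J → ℝ) (c : J → ℤ) :
    ev (ext0 f g) (iota (fun j => (sr (f j) : I → ℤ)) c) = ev g c := by
  classical
  rw [ev_apply, ev_apply]
  have h1 : ∑ i ∈ Finset.univ.image f, ((iota (fun j => (sr (f j) : I → ℤ)) c i : ℤ) : ℝ) * ext0 f g i =
      ∑ i, ((iota (fun j => (sr (f j) : I → ℤ)) c i : ℤ) : ℝ) * ext0 f g i := by
    refine Finset.sum_subset (Finset.subset_univ _) fun i _ hi => ?_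
    rw [iota_levi_apply_ne f c (fun j hj => hi (Finset.mem_image.2 ⟨j, Finset.mem_univ j, hj⟩)), Int.cast_zero,
      zero_mul]
  rw [← h1, Finset.sum_image (fun a _ b _ hab => f.injective hab)]
  refine Finset.sum_congr rfl fun j _ => ?_
  rw [iota_levi_apply, ext0_apply]

/-- **The filtration of a standard Levi subsystem.** -/
theorem filt_levi [Finite W] {R : RGD cs h r T n X} {F : (I → ℤ) → ℝ → Subgroup Y} (hF : Filt R F) (f : J ↪ I)
    (cs' : CoxeterSystem (leviMatrix f M) W') :
    Filt (rgd_levi R f cs') (fun c s => F (iota (fun j => sr (f j)) c) s) where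
  le c s hc := hF.le _ s ((levi_subSys (cs := cs) (h := h) f).isRoot_iota hc)
  mono c s s' hc hs := hF.mono _ s s' ((levi_subSys (cs := cs) (h := h) f).isRoot_iota hc) hs
  neg c s hc hs := hF.neg _ s ((levi_subSys (cs := cs) (h := h) f).isRoot_iota hc) hs
  full := by
    obtain ⟨C, hC, h1⟩ := hF.full
    exact ⟨C, hC, fun c s hc hs => h1 _ s ((levi_subSys (cs := cs) (h := h) f).isRoot_iota hc) hs⟩
  closed c hc u := hF.closed _ ((levi_subSys (cs := cs) (h := h) f).isRoot_iota hc) u
  conj j c s hc := by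
    have h1 := hF.conj (f j) _ s ((levi_subSys (cs := cs) (h := h) f).isRoot_iota hc)
    have h2 := (levi_subSys (cs := cs) (h := h) f).rep_simple_iota cs' (levi_isCartan f h) j c
    have h3 : rfl' cs (1 : W) (f j) = cs.simple (f j) := by
      unfold rfl'
      group
    rw [h3] at h2
    rw [h1, h2]
  tor c s hc := hF.tor _ s ((levi_subSys (cs := cs) (h := h) f).isRoot_iota hc)
  nrm c s hc := hF.nrm _ s ((levi_subSys (cs := cs) (h := h) f).isRoot_iota hc)
  comm g x y hx hy hxy hxy' h0 h1 a ha b hb := by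
    have S := levi_subSys (cs := cs) (h := h) f
    rw [← ev_ext0 f g x] at h0
    rw [← ev_ext0 f g y] at h1
    rw [← ev_ext0 f g x] at ha
    have h2 := hF.comm (ext0 f g) _ _ (S.isRoot_iota hx) (S.isRoot_iota hy) (fun e => hxy (S.iota_injective e))
      (fun e => hxy' (S.iota_injective (by rw [e, map_neg]))) h0 h1 a ha b hb
    refine (?_ : FS (fun z => F z (ev (ext0 f g) z))
      {z | Btwn cs h (iota (fun j => sr (f j)) x) (iota (fun j => sr (f j)) y) z} ≤ _) h2
    refine iSup_le ?_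
    rintro ⟨z, hz, m, i, j, hm, hi, hj, e⟩
    have e' : m • z = iota (fun j => sr (f j)) (i • x + j • y) := by rw [e, map_add, map_smul, map_smul]
    obtain ⟨d, hd, -⟩ := levi_base (cs := cs) (h := h) f z hz m hm _ e'
    have hb' : ∀ c : J → ℤ, IsRoot cs h (iota (fun j => sr (f j)) c) → 0 ≤ c ∨ c ≤ 0 := by
      intro c hc
      obtain ⟨d, hd, hs⟩ := levi_base (cs := cs) (h := h) f _ hc 1 one_pos c (one_smul _ _)
      rwa [S.iota_injective hd]
    have hdr : IsRoot cs' (levi_isCartan f h) d := S.isRoot_of_iota cs' (levi_isCartan f h) hb' (hd ▸ hz)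
    have e2 : m • d = i • x + j • y := S.iota_injective (by rw [map_smul, ← hd, e'])
    change F z (ev (ext0 f g) z) ≤ _
    rw [hd, ev_ext0]
    exact le_FS (G := fun z => F (iota (fun j => sr (f j)) z) (ev g z))
      (S := {z | Btwn cs' (levi_isCartan f h) x y z}) ⟨hdr, m, i, j, hm, hi, hj, e2⟩

end Levi

section Main

variable {I W Y : Type*} [Fintype I] [DecidableEq I] [Group W] [Group Y] {M : CoxeterMatrix I}
  {cs : CoxeterSystem M W} {A : I → I → ℤ} {h : IsCartan M A} {r : ℕ} {T : Subgroup Y} {n : I → Y}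
  {X : (I → ℤ) → Subgroup Y}

theorem G1_map {Y' : Type*} [Group Y'] (φ : Y →* Y') (hφ : Function.Surjective φ) (hG : G1 cs h X = ⊤) :
    G1 cs h (fun x => (X x).map φ) = ⊤ := by
  have h1 : (G1 cs h X).map φ = G1 cs h (fun x => (X x).map φ) := by
    unfold G1 RGD.Sup
    rw [Subgroup.map_iSup]
  rw [← h1, hG, Subgroup.map_top_of_surjective _ hφ]

/-- A perfect finite group with a filtered root group datum with connected diagram and abelian torus. -/
theorem facts_of_rgd [Finite W] [Finite Y] [Nonempty I] [Fact r.Prime] (R : RGD cs h r T n X)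
    {F : (I → ℤ) → ℝ → Subgroup Y} (hF : Filt R F) (hG : G1 cs h X = ⊤) (hT : ∀ s ∈ T, ∀ t ∈ T, s * t = t * s)
    (hconn : Conn M) (hperf : commutator Y = ⊤) :
    HasSplitAb r (Y ⧸ center Y) ∧ LocChar r (Y ⧸ center Y) ∧ center (Y ⧸ center Y) = ⊥ ∧
      commutator (Y ⧸ center Y) = ⊤ ∧ IsSimpleGroup (Y ⧸ center Y) := by
  have hr : r.Prime := Fact.out
  have hTs : Group.IsSolvable T := Group.isSolvable_of_comm fun a b => Subtype.ext (hT _ a.2 _ b.2)
  have hQ := UGT.U2.FOne.QsRGD.isQuasisimple_of_rgd R hG hconn hTs hperf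
  have hsimp : IsSimpleGroup (Y ⧸ center Y) := hQ.2
  let π : Y →* Y ⧸ center Y := QuotientGroup.mk' (center Y)
  have hπ : Function.Surjective π := QuotientGroup.mk'_surjective _
  have hker : π.ker ≤ center Y := by rw [QuotientGroup.ker_mk']
  have R' := rgd_map_of_ker_le_center R π hker
  have F' := filt_map hF π R'
  have hG' : G1 cs h (fun x => (X x).map π) = ⊤ := G1_map π hπ hG
  have hcomm : commutator (Y ⧸ center Y) = ⊤ := by
    rw [commutator_def, ← Subgroup.map_top_of_surjective π hπ, ← Subgroup.map_commutator, ← commutator_def, hperf]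
  have hcen : center (Y ⧸ center Y) = ⊥ := by
    rcases (inferInstance : (center (Y ⧸ center Y)).Normal).eq_bot_or_eq_top with h1 | h1
    · exact h1
    · exfalso
      have h2 : commutator (Y ⧸ center Y) = ⊥ := by
        rw [commutator_def, ← h1, Subgroup.commutator_eq_bot_iff_le_centralizer]
        exact Subgroup.center_le_centralizer _
      rw [h2] at hcomm
      exact bot_ne_top hcomm
  have hTab : ∀ s ∈ T.map π, ∀ t ∈ T.map π, s * t = t * s := by
    rintro _ ⟨s, hs, rfl⟩ _ ⟨t, ht, rfl⟩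
    rw [← map_mul, hT s hs t ht, map_mul]
  have hN : NoCent cs h (T.map π) (fun x => (X x).map π) := by
    intro t _ ht
    rw [← Subgroup.mem_bot, ← hcen, Subgroup.mem_center_iff]
    intro g
    have h1 : (⊤ : Subgroup (Y ⧸ center Y)) ≤ Subgroup.centralizer {t} := by
      rw [← hG']
      refine RGD.Sup_le fun x hx v hv => ?_
      rw [Subgroup.mem_centralizer_singleton_iff]
      exact (ht x hx v hv).symm
    exact Subgroup.mem_centralizer_singleton_iff.1 (h1 (Subgroup.mem_top g))
  refine ⟨?_, ?_, hcen, hcomm, hsimp⟩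
  · exact Cfsg.Agent.Omega.ML.LieRow.CRB.hasSplitAb_of_rgd hr R' hG' hTab
  · intro K hK hK1
    exact KFacts.RgdCharP.local_char R' (fun K hK h1 => borel_tits_of_filt F' hG' hK h1) (GG_eq_top hG') hN hconn hK hK1

/-- **The components of the Levi subgroups.** -/
theorem comp_facts {J' : Type*} [Fintype J'] [DecidableEq J'] [Nonempty J'] (R : RGD cs h r T n X)
    {F : (I → ℤ) → ℝ → Subgroup Y} (hF : Filt R F) [Finite W] [Finite Y] [Fact r.Prime]
    (hT : ∀ s ∈ T, ∀ t ∈ T, s * t = t * s) (f : J' ↪ I) (hconn : Conn (leviMatrix f M))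
    (hperf : ⁅MJ cs h X (Set.range f), MJ cs h X (Set.range f)⁆ = MJ cs h X (Set.range f)) :
    HasSplitAb r (↥(MJ cs h X (Set.range f)) ⧸ center ↥(MJ cs h X (Set.range f))) ∧
      LocChar r (↥(MJ cs h X (Set.range f)) ⧸ center ↥(MJ cs h X (Set.range f))) ∧
      center (↥(MJ cs h X (Set.range f)) ⧸ center ↥(MJ cs h X (Set.range f))) = ⊥ ∧
      commutator (↥(MJ cs h X (Set.range f)) ⧸ center ↥(MJ cs h X (Set.range f))) = ⊤ ∧
      IsSimpleGroup (↥(MJ cs h X (Set.range f)) ⧸ center ↥(MJ cs h X (Set.range f))) := by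
  obtain ⟨m, hm⟩ := Cfsg.Agent.KFacts.MulOdd.Shrink.exists_nn R
  set cs' : CoxeterSystem (leviMatrix f M) (leviMatrix f M).Group := (leviMatrix f M).toCoxeterSystem with hcs'
  have hW' : Finite (leviMatrix f M).Group := (levi_subSys (cs := cs) (h := h) f).finite cs' (levi_isCartan f h)
  have hWf : Fintype W := Fintype.ofFinite W
  have hWf' : Fintype (leviMatrix f M).Group := Fintype.ofFinite _
  have hmem : ∀ {c : J' → ℤ}, IsRoot cs' (levi_isCartan f h) c →
      X (iota (fun j => sr (f j)) c) ≤ MJ cs h X (Set.range f) := fun {c} hc =>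
    RGD.le_Sup ((mem_RootsJ_range_iff f cs').2 ⟨c, hc, rfl⟩)
  have hmK : ∀ j, m (f j) ∈ MJ cs h X (Set.range f) := by
    intro j
    have h1 : X (sr (f j)) ≤ MJ cs h X (Set.range f) := by
      have := hmem (isRoot_sr cs' (levi_isCartan f h) j)
      rwa [iota_sr] at this
    have h2 : X (-sr (f j)) ≤ MJ cs h X (Set.range f) := by
      have := hmem (isRoot_sr cs' (levi_isCartan f h) j).neg
      rwa [map_neg, iota_sr] at this
    exact sup_le h1 h2 (hm (f j)).1
  have R1 := rgd_of_rp R fun i => (hm i).2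
  have F1 := filt_of_rp hF fun i => (hm i).2
  have R2 := rgd_levi R1 f cs'
  have F2 := filt_levi F1 f cs'
  have R3 := rgd_restrict R2 (MJ cs h X (Set.range f)) (fun _ hc => hmem hc) hmK
  have F3 := filt_restrict F2 (MJ cs h X (Set.range f)) (fun _ hc => hmem hc) (fun j => rfl) R3
  have hG3 : G1 cs' (levi_isCartan f h)
      (fun c => (X (iota (fun j => sr (f j)) c)).subgroupOf (MJ cs h X (Set.range f))) = ⊤ := by
    have h1 := iSup_subgroupOf (K := MJ cs h X (Set.range f))
      (fun c : {c | IsRoot cs' (levi_isCartan f h) c} => X (iota (fun j => sr (f j)) c.1)) (fun c => hmem c.2)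
    have h2 : (⨆ c : {c | IsRoot cs' (levi_isCartan f h) c}, X (iota (fun j => sr (f j)) c.1)) =
        MJ cs h X (Set.range f) := by
      apply le_antisymm
      · exact iSup_le fun c => hmem c.2
      · refine RGD.Sup_le fun x hx => ?_
        obtain ⟨c, hc, rfl⟩ := (mem_RootsJ_range_iff f cs').1 hx
        exact le_iSup (fun c : {c | IsRoot cs' (levi_isCartan f h) c} => X (iota (fun j => sr (f j)) c.1)) ⟨c, hc⟩
    rw [h2, Subgroup.subgroupOf_self] at h1
    exact h1.symm
  refine facts_of_rgd R3 F3 hG3 ?_ hconn ?_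
  · intro s hs t ht
    exact Subtype.ext (hT _ hs _ ht)
  · apply Subgroup.map_injective (MJ cs h X (Set.range f)).subtype_injective
    rw [Subgroup.map_subtype_commutator, ← MonoidHom.range_eq_map, Subgroup.range_subtype]
    exact hperf

end Main

end Cfsg.Agent.H35.Inv
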